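import Cfsg.Agent.Sakuma.Solve

/-!
Sakuma's theorem.
-/

set_option autoImplicit false

namespace CfsgLib.Sakuma

open Cfsg Cfsg.Axial CfsgLib.Majorana

variable {V : Type*} [AddCommGroup V] [Module ℝ V]
  {mul : V →ₗ[ℝ] V →ₗ[ℝ] V} {B : LinearMap.BilinForm ℝ V}

/-- The automorphisms of the algebra with form. -/
def autos (mul : V →ₗ[ℝ] V →ₗ[ℝ] V) (B : LinearMap.BilinForm ℝ V) : Subgroup (V ≃ₗ[ℝ] V) where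
  carrier := {φ | (∀ x y, φ (mul x y) = mul (φ x) (φ y)) ∧ ∀ x y, B (φ x) (φ y) = B x y}
  one_mem' := ⟨fun _ _ => rfl, fun _ _ => rfl⟩
  mul_mem' {φ ψ} hφ hψ := ⟨fun x y => by simp [LinearEquiv.mul_apply, hφ.1, hψ.1],
    fun x y => by simp [LinearEquiv.mul_apply, hφ.2, hψ.2]⟩
  inv_mem' {φ} hφ := by
    have hinv : ∀ x, φ ((φ⁻¹ : V ≃ₗ[ℝ] V) x) = x := fun x => φ.apply_symm_apply x
    exact ⟨fun x y => φ.injective (by rw [hφ.1, hinv, hinv, hinv]),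
      fun x y => by rw [← hφ.2, hinv, hinv]⟩

/-- The alternating orbit sequence of two axes. -/
def orbitSeq (ρ : V ≃ₗ[ℝ] V) (a₀ a₁ : V) (j : ℤ) : V :=
  (ρ ^ (j / 2)) (if j % 2 = 0 then a₀ else a₁)

theorem orbitSeq_even (ρ : V ≃ₗ[ℝ] V) (a₀ a₁ : V) (j n : ℤ) (h : j = 2 * n) :
    orbitSeq ρ a₀ a₁ j = (ρ ^ n) a₀ := by
  rw [orbitSeq, if_pos (by omega), show j / 2 = n by omega]

theorem orbitSeq_odd (ρ : V ≃ₗ[ℝ] V) (a₀ a₁ : V) (j n : ℤ) (h : j = 2 * n + 1) :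
    orbitSeq ρ a₀ a₁ j = (ρ ^ n) a₁ := by
  rw [orbitSeq, if_neg (by omega), show j / 2 = n by omega]

theorem sakuma (hV : IsMajoranaAmbient mul B) {μ₀ μ₁ : V ≃ₗ[ℝ] V} {a₀ a₁ : V}
    (h₀ : IsMajoranaPair mul B μ₀ a₀) (h₁ : IsMajoranaPair mul B μ₁ a₁)
    (hn₀ : B a₀ a₀ = 1) (hn₁ : B a₁ a₁ = 1) :
    ∃ n : ℕ, 1 ≤ n ∧ n ≤ 6 ∧ (μ₀ * μ₁) ^ n = 1 := by
  have s₀ : μ₀ * μ₀ = 1 := LinearEquiv.ext fun x => invol h₀ x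
  have s₁ : μ₁ * μ₁ = 1 := LinearEquiv.ext fun x => invol h₁ x
  have i₀ : μ₀⁻¹ = μ₀ := inv_eq_of_mul_eq_one_right s₀
  have i₁ : μ₁⁻¹ = μ₁ := inv_eq_of_mul_eq_one_right s₁
  have e₀ : μ₀ a₀ = a₀ := map_axis h₀
  have e₁ : μ₁ a₁ = a₁ := map_axis h₁
  obtain ⟨ρ, hρ⟩ : ∃ ρ, ρ = μ₁ * μ₀ := ⟨_, rfl⟩
  have hmem : ρ ∈ autos mul B := hρ ▸ mul_mem (⟨h₁.1, h₁.2.1⟩) (⟨h₀.1, h₀.2.1⟩)
  have hρinv : ρ⁻¹ = μ₀ * μ₁ := by rw [hρ, mul_inv_rev, i₀, i₁]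
  have f₀ : μ₀ a₁ = ρ⁻¹ a₁ := by rw [hρinv, LinearEquiv.mul_apply, e₁]
  have f₁ : μ₁ a₀ = ρ a₀ := by rw [hρ, LinearEquiv.mul_apply, e₀]
  have c₀ : ∀ n : ℤ, μ₀ * ρ ^ n = ρ ^ (-n) * μ₀ := by
    intro n
    have : μ₀ * ρ * μ₀⁻¹ = ρ⁻¹ := by
      rw [hρinv, i₀, hρ, mul_assoc, mul_assoc μ₁, s₀, mul_one]
    rw [zpow_neg, ← inv_zpow, ← this, conj_zpow, inv_mul_cancel_right]
  have c₁ : ∀ n : ℤ, μ₁ * ρ ^ n = ρ ^ (-n) * μ₁ := by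
    intro n
    have : μ₁ * ρ * μ₁⁻¹ = ρ⁻¹ := by
      rw [hρinv, i₁, hρ, ← mul_assoc, s₁, one_mul]
    rw [zpow_neg, ← inv_zpow, ← this, conj_zpow, inv_mul_cancel_right]
  have key₀ : ∀ (k n : ℤ) (x : V), (ρ ^ k * μ₀ * (ρ ^ k)⁻¹) ((ρ ^ n) x) = (ρ ^ (2 * k - n)) (μ₀ x) := by
    intro k n x
    have : ρ ^ k * μ₀ * (ρ ^ k)⁻¹ * ρ ^ n = ρ ^ (2 * k - n) * μ₀ := by
      rw [← zpow_neg, mul_assoc (ρ ^ k * μ₀), ← zpow_add, mul_assoc, c₀, ← mul_assoc, ← zpow_add]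
      ring_nf
    exact LinearEquiv.congr_fun this x
  have key₁ : ∀ (k n : ℤ) (x : V), (ρ ^ k * μ₁ * (ρ ^ k)⁻¹) ((ρ ^ n) x) = (ρ ^ (2 * k - n)) (μ₁ x) := by
    intro k n x
    have : ρ ^ k * μ₁ * (ρ ^ k)⁻¹ * ρ ^ n = ρ ^ (2 * k - n) * μ₁ := by
      rw [← zpow_neg, mul_assoc (ρ ^ k * μ₁), ← zpow_add, mul_assoc, c₁, ← mul_assoc, ← zpow_add]
      ring_nf
    exact LinearEquiv.congr_fun this x
  have hp₀ : ∀ k : ℤ, IsMajoranaPair mul B (ρ ^ k * μ₀ * (ρ ^ k)⁻¹) ((ρ ^ k) a₀) := fun k =>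
    pair_map h₀ (zpow_mem hmem k).1 (zpow_mem hmem k).2
  have hp₁ : ∀ k : ℤ, IsMajoranaPair mul B (ρ ^ k * μ₁ * (ρ ^ k)⁻¹) ((ρ ^ k) a₁) := fun k =>
    pair_map h₁ (zpow_mem hmem k).1 (zpow_mem hmem k).2
  have hparity : ∀ j : ℤ, (∃ n, j = 2 * n) ∨ ∃ n, j = 2 * n + 1 := fun j =>
    (Int.emod_two_eq_zero_or_one j).imp (fun h => ⟨j / 2, by omega⟩) (fun h => ⟨j / 2, by omega⟩)
  have D : Seq mul B (orbitSeq ρ a₀ a₁) := by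
    refine ⟨hV, fun i => ?_, fun i => ?_⟩
    · rcases hparity i with ⟨k, rfl⟩ | ⟨k, rfl⟩
      · refine ⟨_, orbitSeq_even ρ a₀ a₁ _ k rfl ▸ hp₀ k, fun j => ?_⟩
        rcases hparity j with ⟨n, rfl⟩ | ⟨n, rfl⟩
        · rw [orbitSeq_even ρ a₀ a₁ _ n rfl, key₀, e₀,
            orbitSeq_even ρ a₀ a₁ _ (2 * k - n) (by ring)]
        · rw [orbitSeq_odd ρ a₀ a₁ _ n rfl, key₀, f₀, ← LinearEquiv.mul_apply, ← zpow_neg_one,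
            ← zpow_add, orbitSeq_odd ρ a₀ a₁ _ (2 * k - n + -1) (by ring)]
      · refine ⟨_, orbitSeq_odd ρ a₀ a₁ _ k rfl ▸ hp₁ k, fun j => ?_⟩
        rcases hparity j with ⟨n, rfl⟩ | ⟨n, rfl⟩
        · rw [orbitSeq_even ρ a₀ a₁ _ n rfl, key₁, f₁, ← LinearEquiv.mul_apply,
            mul_zpow_self, orbitSeq_even ρ a₀ a₁ _ (1 + (2 * k - n)) (by ring), add_comm]
        · rw [orbitSeq_odd ρ a₀ a₁ _ n rfl, key₁, e₁,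
            orbitSeq_odd ρ a₀ a₁ _ (2 * k - n) (by ring)]
    · rcases hparity i with ⟨k, rfl⟩ | ⟨k, rfl⟩
      · rw [orbitSeq_even ρ a₀ a₁ _ k rfl, (zpow_mem hmem k).2, hn₀]
      · rw [orbitSeq_odd ρ a₀ a₁ _ k rfl, (zpow_mem hmem k).2, hn₁]
  obtain ⟨n, hn1, hn6, hn⟩ := exists_period D
  refine ⟨n, hn1, hn6, ?_⟩
  have hρn : ρ ^ (n : ℤ) = 1 := by
    rw [orbitSeq_even ρ a₀ a₁ 0 0 (by norm_num), zpow_zero] at hn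
    rcases hparity (n : ℤ) with ⟨k, hk⟩ | ⟨k, hk⟩
    · rw [orbitSeq_even ρ a₀ a₁ _ k hk] at hn
      have h := pair_unique (hn ▸ hp₀ k) h₀
      rw [← zpow_neg, mul_assoc, c₀, neg_neg, ← mul_assoc, ← zpow_add] at h
      rw [hk, two_mul]
      exact mul_eq_right.1 h
    · rw [orbitSeq_odd ρ a₀ a₁ _ k hk] at hn
      have h := pair_unique (hn ▸ hp₁ k) h₀
      rw [← zpow_neg, mul_assoc, c₁, neg_neg, ← mul_assoc, ← zpow_add] at h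
      have h2 : μ₁ = ρ * μ₀ := by rw [hρ, mul_assoc, s₀, mul_one]
      rw [h2, ← mul_assoc] at h
      rw [hk, two_mul, zpow_add_one]
      exact mul_eq_right.1 h
  rw [← hρinv, inv_pow, ← zpow_natCast, hρn, inv_one]

end CfsgLib.Sakuma
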