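import Cfsg.Agent.Majorana.Basic

/-!
A Majorana axis and an arbitrary vector: the eigencomponents of the vector.
-/

set_option autoImplicit false

namespace CfsgLib.Sakuma

open Cfsg Cfsg.Axial CfsgLib.Majorana

variable {V : Type*} [AddCommGroup V] [Module ℝ V] {mul : V →ₗ[ℝ] V →ₗ[ℝ] V}
  {B : LinearMap.BilinForm ℝ V} {μ : V ≃ₗ[ℝ] V} {e : V}

theorem split (h : IsMajoranaPair mul B μ e) (z : V) :
    ∃ p w, z = p + w ∧ μ p = p ∧ μ w = -w ∧ mul e w = (1 / 32 : ℝ) • w := by
  obtain ⟨-, -, ⟨⟨-, -, htop, -⟩, -⟩, hfix, hneg⟩ := h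
  have hsplit : eigenSum mul e ({1, 0, 1 / 4} : Set ℝ) ⊔ eigen mul e (1 / 32) = ⊤ := by
    rw [← htop]
    simp only [majoranaSpectrum, eigenSum_insert, eigenSum_singleton, sup_assoc]
  obtain ⟨p, hp, w, hw, rfl⟩ := Submodule.mem_sup.1 (hsplit.ge (Submodule.mem_top (x := z)))
  exact ⟨p, w, rfl, hfix p hp, hneg w hw, mem_eigen.1 hw⟩

theorem invol (h : IsMajoranaPair mul B μ e) (z : V) : μ (μ z) = z := by
  obtain ⟨p, w, rfl, hp, hw, -⟩ := split h z
  simp [hp, hw]

theorem eigen_of_negated (h : IsMajoranaPair mul B μ e) {z : V} (hz : μ z = -z) :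
    mul e z = (1 / 32 : ℝ) • z := by
  obtain ⟨p, w, rfl, hp, hw, he⟩ := split h z
  rw [map_add, hp, hw] at hz
  have hp0 : p = 0 := by
    have : (2 : ℝ) • p = 0 := by linear_combination (norm := module) hz
    exact (smul_eq_zero.1 this).resolve_left (by norm_num)
  rw [hp0, zero_add]
  exact he

theorem map_axis (h : IsMajoranaPair mul B μ e) : μ e = e :=
  h.2.2.2.1 e (by
    rw [eigenSum_insert]
    exact Submodule.mem_sup_left (by rw [h.2.2.1.2]; exact Submodule.mem_span_singleton_self e))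

/-- The coefficient of the fusion product at a quarter. -/
theorem fusion_facts (hV : IsMajoranaAmbient mul B) (h : IsMajoranaPair mul B μ e) (hn : B e e = 1)
    {u v : V} (hu : mul e u = 0) (hv : mul e v = (1 / 4 : ℝ) • v) :
    mul e (mul u u) = 0 ∧ mul e (mul u v) = (1 / 4 : ℝ) • mul u v ∧
      mul e (mul v v) = ((1 / 4 : ℝ) * B v v) • e ∧ B e u = 0 ∧ B e v = 0 ∧ B u v = 0 := by
  obtain ⟨hcomm, hsym, -, hassoc, -⟩ := hV
  have hee : mul e e = e := h.2.2.1.1.2.1
  have hax := h.2.2.1.1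
  have hS : ∀ {c : ℝ}, c ∈ ({1, 0, 1 / 4, 1 / 32} : Set ℝ) → c ∈ majoranaSpectrum := fun h => h
  have hBu : B e u = 0 := by
    have h := hassoc e e u
    rw [hu, map_zero, hee] at h
    exact h.symm
  have hBv : B e v = 0 := by
    have h := hassoc e e v
    rw [hv, hee, map_smul, smul_eq_mul] at h
    linarith
  have huu : mul e (mul u u) = 0 := by
    have := fusion hax (c := 0) (d := 0) (hS (by simp)) (hS (by simp)) (x := u) (y := u)
      (by rw [hu, zero_smul]) (by rw [hu, zero_smul])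
    rw [law_zero, eigenSum_singleton, mem_eigen, zero_smul] at this
    exact this
  have huv : mul e (mul u v) = (1 / 4 : ℝ) • mul u v := by
    have := fusion hax (c := 0) (d := 1 / 4) (hS (by simp)) (hS (by simp)) (x := u) (y := v)
      (by rw [hu, zero_smul]) hv
    rwa [law_zero_quarter, eigenSum_singleton, mem_eigen] at this
  obtain ⟨p, q, hp, hq, hvv⟩ : ∃ p q, mul e p = p ∧ mul e q = 0 ∧ mul v v = p + q := by
    have := fusion hax (c := 1 / 4) (d := 1 / 4) (hS (by simp)) (hS (by simp)) (x := v) (y := v) hv hv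
    rw [law_quarter] at this
    exact exists_one_zero this
  obtain ⟨α, rfl⟩ : ∃ α : ℝ, α • e = p := by
    have hmem : p ∈ eigen mul e 1 := mem_eigen.2 (by rw [hp, one_smul])
    rw [h.2.2.1.2] at hmem
    exact Submodule.mem_span_singleton.1 hmem
  have hα : α = (1 / 4 : ℝ) * B v v := by
    have h1 := hassoc e v v
    have h2 := hassoc e e q
    rw [hq, map_zero, hee] at h2
    rw [hvv, map_add, map_smul, smul_eq_mul, hn, ← h2, hv, map_smul, LinearMap.smul_apply,
      smul_eq_mul] at h1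
    linarith
  refine ⟨huu, huv, ?_, hBu, hBv, ?_⟩
  · rw [hvv, map_add, map_smul, hee, hq, add_zero, hα]
  · have h1 := hassoc u e v
    rw [hv, hcomm u e, hu, map_smul, smul_eq_mul, map_zero, LinearMap.zero_apply] at h1
    linarith

/-- The component of a vector for the eigenvalue zero. -/
noncomputable def uPart (l : ℝ) (e x y S : V) : V :=
  (-4 : ℝ) • S + (7 / 16 : ℝ) • (x + y) + (3 * l - 1 / 8) • e

/-- The component of a vector for the eigenvalue one quarter. -/
noncomputable def vPart (l : ℝ) (e x y S : V) : V :=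
  (4 : ℝ) • S + (1 / 16 : ℝ) • (x + y) + (1 / 8 - 4 * l) • e

theorem axis_facts (hV : IsMajoranaAmbient mul B) (h : IsMajoranaPair mul B μ e) (hn : B e e = 1)
    {x y S : V} (hy : μ x = y) {l : ℝ} (hl : B e x = l)
    (hS : mul e x = S + (1 / 32 : ℝ) • (e + x)) :
    mul e (uPart l e x y S) = 0 ∧ mul e (vPart l e x y S) = (1 / 4 : ℝ) • vPart l e x y S ∧
      mul e y = S + (1 / 32 : ℝ) • (e + y) ∧
      mul e S = ((31 * l - 1) / 32) • e + (7 / 128 : ℝ) • vPart l e x y S := by
  have hyx : μ y = x := by rw [← hy, invol h]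
  have hfix : μ ((1 / 2 : ℝ) • (x + y)) = (1 / 2 : ℝ) • (x + y) := by
    rw [map_smul, map_add, hy, hyx, add_comm]
  have hneg : mul e (x - y) = (1 / 32 : ℝ) • (x - y) := by
    refine eigen_of_negated h ?_
    rw [map_sub, hy, hyx, neg_sub]
  obtain ⟨α, u, v, hp, hu, hv⟩ := decompose_fixed h hfix
  obtain ⟨-, -, -, hBu, hBv, -⟩ := fusion_facts hV h hn hu hv
  have hee : mul e e = e := h.2.2.1.1.2.1
  have hBy : B e y = l := by
    have := h.2.1 e x
    rw [map_axis h, hy] at this
    rw [this, hl]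
  have hα : α = l := by
    have h1 := congrArg (B e) hp
    simp only [map_add, map_smul, smul_eq_mul, hl, hBy, hn, hBu, hBv] at h1
    linarith
  subst hα
  have hep : mul e ((1 / 2 : ℝ) • (x + y)) = α • e + (1 / 4 : ℝ) • v := by
    rw [hp, map_add, map_add, map_smul, hee, hu, hv, add_zero]
  rw [map_smul, map_add] at hep
  rw [map_sub] at hneg
  have hey : mul e y = S + (1 / 32 : ℝ) • (e + y) := by
    linear_combination (norm := module) hS - hneg
  have hv' : vPart α e x y S = v := by
    rw [hS, hey] at hep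
    rw [vPart]
    linear_combination (norm := module) (4 : ℝ) • hep
  have hu' : uPart α e x y S = u := by
    have e1 : uPart α e x y S + vPart α e x y S = (1 / 2 : ℝ) • (x + y) - α • e := by
      rw [uPart, vPart]; module
    rw [hv'] at e1
    linear_combination (norm := module) e1 + hp
  refine ⟨hu' ▸ hu, hv' ▸ hv, hey, ?_⟩
  have h1 := hv' ▸ hv
  rw [vPart, map_add, map_add, map_smul, map_smul, map_smul, map_add, hS, hey, hee] at h1
  rw [vPart]
  linear_combination (norm := module) (1 / 4 : ℝ) • h1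

end CfsgLib.Sakuma
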