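import Cfsg.Agent.Sakuma.Axis

/-!
The two product formulas forced by the fusion rules at one axis.
-/

set_option autoImplicit false
set_option maxHeartbeats 1000000

namespace CfsgLib.Sakuma

open Cfsg Cfsg.Axial CfsgLib.Majorana

variable {V : Type*} [AddCommGroup V] [Module ℝ V] {mul : V →ₗ[ℝ] V →ₗ[ℝ] V}
  {Bf : LinearMap.BilinForm ℝ V} {μ : V ≃ₗ[ℝ] V}

theorem core (hV : IsMajoranaAmbient mul Bf) {e : V} (h : IsMajoranaPair mul Bf μ e) (hn : Bf e e = 1)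
    (A A' C C' S s t : V) (l m : ℝ) (hμ : μ A = A') (hl : Bf e A = l) (hl' : Bf e A' = l)
    (hm : Bf A A' = m) (hA1 : Bf A A = 1) (hA1' : Bf A' A' = 1)
    (hcA : Bf S A = (31 * l - 1) / 32) (hcA' : Bf S A' = (31 * l - 1) / 32)
    (hAA : mul A A = A) (hAA' : mul A' A' = A')
    (eA : mul e A = S + (1 / 32 : ℝ) • (e + A)) (eA' : mul e A' = S + (1 / 32 : ℝ) • (e + A'))
    (eC : mul e C = s + (1 / 32 : ℝ) • (e + C)) (eC' : mul e C' = s + (1 / 32 : ℝ) • (e + C'))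
    (AA' : mul A A' = t + (1 / 32 : ℝ) • (A + A'))
    (eS : mul e S = ((31 * l - 1) / 32) • e + (7 / 128 : ℝ) • vPart l e A A' S)
    (AS : mul A S = ((31 * l - 1) / 32) • A + (7 / 128 : ℝ) • vPart l A C e S)
    (AS' : mul A' S = ((31 * l - 1) / 32) • A' + (7 / 128 : ℝ) • vPart l A' C' e S) :
    mul e t = ((-19 / 48 : ℝ) + 32 / 3 * l) • S
        + ((-127 / 3072 : ℝ) + 5 / 3 * l - 1 / 24 * m - 32 / 3 * l ^ 2) • e
        + ((-19 / 3072 : ℝ) + 1 / 6 * l) • A + ((-19 / 3072 : ℝ) + 1 / 6 * l) • A'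
        + (7 / 96 : ℝ) • s + (7 / 6144 : ℝ) • C + (7 / 6144 : ℝ) • C' ∧
      mul S S = ((-13 / 1536 : ℝ) - 5 / 12 * l) • S
        + ((-7 / 98304 : ℝ) - 7 / 384 * l + 7 / 1536 * m + 7 / 6 * l ^ 2) • e
        + ((-245 / 196608 : ℝ) + 49 / 768 * l) • A + ((-245 / 196608 : ℝ) + 49 / 768 * l) • A'
        + (-7 / 1536 : ℝ) • s + (49 / 196608 : ℝ) • C + (49 / 196608 : ℝ) • C'
        + (7 / 2048 : ℝ) • t := by
  obtain ⟨hu, hv, -, -⟩ := axis_facts hV h hn hμ hl eA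
  obtain ⟨huu, huv, hvv, -, hev, hBuv⟩ := fusion_facts hV h hn hu hv
  have hcomm := hV.1
  have hsym := hV.2.1
  have hee : mul e e = e := h.2.2.1.1.2.1
  have hvS : Bf (vPart l e A A' S) (uPart l e A A' S + vPart l e A A' S) =
      4 * ((31 * l - 1) / 32) + (1 + m) / 16 + (1 / 8 - 4 * l) * l := by
    have e1 : uPart l e A A' S + vPart l e A A' S = (1 / 2 : ℝ) • (A + A') - l • e := by
      rw [uPart, vPart]; module
    rw [e1, map_sub, map_smul, map_smul, smul_eq_mul, smul_eq_mul, hsym _ e, hev, mul_zero, sub_zero]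
    simp only [vPart, map_add, map_smul, LinearMap.add_apply, LinearMap.smul_apply, smul_eq_mul,
      hl, hl', hm, hA1, hA1', hcA, hcA', hsym A' A]
    ring
  rw [map_add, hsym _ (uPart l e A A' S), hBuv, zero_add] at hvS
  rw [hvS] at hvv
  simp only [uPart, vPart, map_add, map_smul, LinearMap.add_apply,
    LinearMap.smul_apply, hcomm A e, hcomm A' e, hcomm A' A, hcomm S e, hcomm S A, hcomm S A', hee,
    hAA, hAA', eA, eA', AA', eS, AS, AS', eC, eC'] at huu huv hvv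
  have hX : mul e t = ((-19 / 48 : ℝ) + 32 / 3 * l) • S
        + ((-127 / 3072 : ℝ) + 5 / 3 * l - 1 / 24 * m - 32 / 3 * l ^ 2) • e
        + ((-19 / 3072 : ℝ) + 1 / 6 * l) • A + ((-19 / 3072 : ℝ) + 1 / 6 * l) • A'
        + (7 / 96 : ℝ) • s + (7 / 6144 : ℝ) • C + (7 / 6144 : ℝ) • C' := by
    linear_combination (norm := module) (8 / 3 : ℝ) • huu - (8 / 3 : ℝ) • hvv
  refine ⟨hX, ?_⟩
  linear_combination (norm := module) (1 / 4 : ℝ) • huu + (1 / 4 : ℝ) • huv - (7 / 64 : ℝ) • hX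

end CfsgLib.Sakuma
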