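import Cfsg.Agent.Sakuma.Relations

/-!
The Gram entries of a reflection-closed sequence of axes and the two equations for its parameters.
-/

set_option autoImplicit false
set_option maxHeartbeats 1000000

namespace CfsgLib.Sakuma

open Cfsg Cfsg.Axial CfsgLib.Majorana

/-- A polynomial of the dihedral algebra. -/
noncomputable def gThree (l m : ℝ) : ℝ :=
  33 / 7 - 2169 / 7 * l - 33 / 7 * m - 1920 / 7 * l * m + 36864 / 7 * l ^ 2 - 32768 / 7 * l ^ 3

/-- A polynomial of the dihedral algebra. -/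
noncomputable def gFour (l m : ℝ) : ℝ :=
  156 / 7 - 19840 / 7 * l - 3 * m - 640 / 7 * l * m + 110592 * l ^ 2 - 128 / 7 * m ^ 2 + 65536 * l ^ 2 * m - 9601024 / 7 * l ^ 3 + 8388608 / 7 * l ^ 4

/-- A polynomial of the dihedral algebra. -/
noncomputable def gFive (l m : ℝ) : ℝ :=
  5512 / 49 - 137721 / 7 * l - 5256 / 49 * m + 259584 / 49 * l * m + 8683520 / 7 * l ^ 2 - 256 / 49 * m ^ 2 + 475136 / 49 * l * m ^ 2 + 12582912 / 49 * l ^ 2 * m - 1633419264 / 49 * l ^ 3 - 754974720 / 49 * l ^ 3 * m + 16273899520 / 49 * l ^ 4 - 13958643712 / 49 * l ^ 5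

/-- A polynomial of the dihedral algebra. -/
noncomputable def gSix (l m : ℝ) : ℝ :=
  29013 / 49 - 904320 / 7 * l - 46500 / 49 * m + 5162880 / 49 * l * m + 542429184 / 49 * l ^ 2 + 1152 / 49 * m ^ 2 + 2457600 / 49 * l * m ^ 2 - 97910784 / 49 * l ^ 2 * m - 22767894528 / 49 * l ^ 3 + 16384 / 49 * m ^ 3 - 25165824 / 7 * l ^ 2 * m ^ 2 - 5511315456 / 49 * l ^ 3 * m + 469317451776 / 49 * l ^ 4 + 177167400960 / 49 * l ^ 4 * m - 3917010173952 / 49 * l ^ 5 + 3298534883328 / 49 * l ^ 6

/-- A polynomial of the dihedral algebra. -/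
noncomputable def qZero (l m : ℝ) : ℝ :=
  -117 / 56 + 1800 / 7 * l + 501 / 56 * m - 3336 / 7 * l * m - 69120 / 7 * l ^ 2 - 48 / 7 * m ^ 2 - 15360 / 7 * l ^ 2 * m + 872448 / 7 * l ^ 3 - 786432 / 7 * l ^ 4

/-- A polynomial of the dihedral algebra. -/
noncomputable def qOne (l m : ℝ) : ℝ :=
  351 / 196 - 216 / 7 * l - 8703 / 196 * m + 124392 / 49 * l * m - 92160 / 7 * l ^ 2 + 2088 / 49 * m ^ 2 + 70656 / 49 * l * m ^ 2 - 1195008 / 49 * l ^ 2 * m + 33103872 / 49 * l ^ 3 + 19660800 / 49 * l ^ 3 * m - 453771264 / 49 * l ^ 4 + 402653184 / 49 * l ^ 5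

variable {V : Type*} [AddCommGroup V] [Module ℝ V]
  {mul : V →ₗ[ℝ] V →ₗ[ℝ] V} {B : LinearMap.BilinForm ℝ V} {a : ℤ → V} {l m : ℝ}

namespace Seq

theorem inner_near (D : Seq mul B a) (hl : B (a 0) (a 1) = l) (hm : B (a 0) (a 2) = m) (i j : ℤ) :
    (j = i + 1 ∨ i = j + 1 → B (a i) (a j) = l) ∧ (j = i + 2 ∨ i = j + 2 → B (a i) (a j) = m) := by
  refine ⟨?_, ?_⟩ <;> rintro (rfl | rfl)
  · rw [D.inner_one, hl]
  · rw [D.symm, D.inner_one, hl]
  · rw [D.inner_two, hm]
  · rw [D.symm, D.inner_two, hm]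

theorem shifted_params (D : Seq mul B a) (hl : B (a 0) (a 1) = l) (hm : B (a 0) (a 2) = m) (k : ℤ) :
    B ((fun i => a (i + k)) 0) ((fun i => a (i + k)) 1) = l ∧
      B ((fun i => a (i + k)) 0) ((fun i => a (i + k)) 2) = m := by
  constructor
  · exact (D.inner_near hl hm _ _).1 (by omega)
  · exact (D.inner_near hl hm _ _).2 (by omega)

theorem three_base (D : Seq mul B a) (hl : B (a 0) (a 1) = l) (hm : B (a 0) (a 2) = m) :
    B (a 0) (a 3) = gThree l m := by
  have h := congrArg (B (a 0)) (D.rec_three hl hm)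
  simp only [map_add, map_smul, smul_eq_mul, D.norm, hl, hm,
    (D.inner_near hl hm 0 (-1)).1 (by omega), (D.inner_near hl hm 0 (-2)).2 (by omega),
    D.inner_sig_same 0 0 (by norm_num) hm, D.inner_sig_other 0 1 (by norm_num) hl hm] at h
  rw [h, gThree]
  ring

theorem inner_three (D : Seq mul B a) (hl : B (a 0) (a 1) = l) (hm : B (a 0) (a 2) = m) (i j : ℤ)
    (h : j = i + 3) : B (a i) (a j) = gThree l m := by
  obtain ⟨h1, h2⟩ := D.shifted_params hl hm i
  have := (D.shift i).three_base h1 h2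
  rw [h, ← this]
  ring_nf

theorem four_base (D : Seq mul B a) (hl : B (a 0) (a 1) = l) (hm : B (a 0) (a 2) = m) :
    B (a (-1)) (a 3) = gFour l m := by
  have h := congrArg (B (a (-1))) (D.rec_three hl hm)
  simp only [map_add, map_smul, smul_eq_mul, D.norm,
    (D.inner_near hl hm (-1) 0).1 (by omega), (D.inner_near hl hm (-1) 1).2 (by omega),
    (D.inner_near hl hm (-1) (-2)).1 (by omega), D.inner_three hl hm (-1) 2 (by norm_num),
    D.inner_sig_same (-1) 1 (by norm_num) hm, D.inner_sig_other (-1) 0 (by norm_num) hl hm] at h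
  rw [h, gThree, gFour]
  ring

theorem inner_four (D : Seq mul B a) (hl : B (a 0) (a 1) = l) (hm : B (a 0) (a 2) = m) (i j : ℤ)
    (h : j = i + 4) : B (a i) (a j) = gFour l m := by
  obtain ⟨h1, h2⟩ := D.shifted_params hl hm (i + 1)
  have := (D.shift (i + 1)).four_base h1 h2
  rw [h, ← this]
  ring_nf

theorem five_base (D : Seq mul B a) (hl : B (a 0) (a 1) = l) (hm : B (a 0) (a 2) = m) :
    B (a (-2)) (a 3) = gFive l m := by
  have h := congrArg (B (a (-2))) (D.rec_three hl hm)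
  simp only [map_add, map_smul, smul_eq_mul, D.norm,
    (D.inner_near hl hm (-2) 0).2 (by omega), (D.inner_near hl hm (-2) (-1)).1 (by omega),
    D.inner_three hl hm (-2) 1 (by norm_num), D.inner_four hl hm (-2) 2 (by norm_num),
    D.inner_sig_same (-2) 0 (by norm_num) hm, D.inner_sig_other (-2) 1 (by norm_num) hl hm] at h
  rw [h, gThree, gFour, gFive]
  ring

theorem inner_five (D : Seq mul B a) (hl : B (a 0) (a 1) = l) (hm : B (a 0) (a 2) = m) (i j : ℤ)
    (h : j = i + 5) : B (a i) (a j) = gFive l m := by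
  obtain ⟨h1, h2⟩ := D.shifted_params hl hm (i + 2)
  have := (D.shift (i + 2)).five_base h1 h2
  rw [h, ← this]
  ring_nf

theorem six_base (D : Seq mul B a) (hl : B (a 0) (a 1) = l) (hm : B (a 0) (a 2) = m) :
    B (a (-3)) (a 3) = gSix l m := by
  have h := congrArg (B (a (-3))) (D.rec_three hl hm)
  simp only [map_add, map_smul, smul_eq_mul,
    (D.inner_near hl hm (-3) (-1)).2 (by omega), (D.inner_near hl hm (-3) (-2)).1 (by omega),
    D.inner_three hl hm (-3) 0 (by norm_num), D.inner_four hl hm (-3) 1 (by norm_num),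
    D.inner_five hl hm (-3) 2 (by norm_num),
    D.inner_sig_same (-3) 1 (by norm_num) hm, D.inner_sig_other (-3) 0 (by norm_num) hl hm] at h
  rw [h, gThree, gFour, gFive, gSix]
  ring

theorem inner_six (D : Seq mul B a) (hl : B (a 0) (a 1) = l) (hm : B (a 0) (a 2) = m) (i j : ℤ)
    (h : j = i + 6) : B (a i) (a j) = gSix l m := by
  obtain ⟨h1, h2⟩ := D.shifted_params hl hm (i + 3)
  have := (D.shift (i + 3)).six_base h1 h2
  rw [h, ← this]
  ring_nf

/-- Two expressions for the product of `a₋₁` and `a₂`. -/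
theorem equations (D : Seq mul B a) (hl : B (a 0) (a 1) = l) (hm : B (a 0) (a 2) = m) :
    qZero l m = 0 ∧ qOne l m = 0 := by
  obtain ⟨h1, h2⟩ := D.shifted_params hl hm (-1)
  have hs := (D.shift (-1)).prod_three h1 h2
  have hf := (D.flip 2).prod_three (l := l) (m := m) ((D.inner_near hl hm _ _).1 (by omega))
    ((D.inner_near hl hm _ _).2 (by omega))
  rw [D.esS_shift (-1), Seq.sig_two_shift] at hs
  rw [D.esS_flip 2, D.sig_two_flip 2 0] at hf
  simp only [Int.reduceAdd, Int.reduceSub, Int.reduceNeg] at hs hf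
  rw [D.comm] at hf
  have hE := hf.symm.trans hs
  have symm' : ∀ i j : ℤ, B (a i) (a j) = B (a j) (a i) := fun i j => D.symm _ _
  constructor
  · have h := congrArg (B (a 0)) hE
    simp only [map_add, map_smul, smul_eq_mul, D.norm, hl, hm,
      (D.inner_near hl hm 0 (-1)).1 (by omega), (D.inner_near hl hm 0 (-2)).2 (by omega),
      (symm' 0 (-3)).trans (D.inner_three hl hm (-3) 0 (by norm_num)),
      D.inner_three hl hm 0 3 (by norm_num), D.inner_four hl hm 0 4 (by norm_num),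
      D.symm (a 0) (esS mul a), D.inner_S 0 hl,
      D.inner_sig_same 0 2 (by norm_num) hm, D.inner_sig_other 0 (-1) (by norm_num) hl hm,
      gThree, gFour] at h
    rw [qZero]
    linear_combination h
  · have h := congrArg (B (a (-1))) hE
    simp only [map_add, map_smul, smul_eq_mul, D.norm,
      (D.inner_near hl hm (-1) 0).1 (by omega), (D.inner_near hl hm (-1) 1).2 (by omega),
      (D.inner_near hl hm (-1) (-2)).1 (by omega), (D.inner_near hl hm (-1) (-3)).2 (by omega),
      D.inner_three hl hm (-1) 2 (by norm_num), D.inner_four hl hm (-1) 3 (by norm_num),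
      D.inner_five hl hm (-1) 4 (by norm_num),
      D.symm (a (-1)) (esS mul a), D.inner_S (-1) hl,
      D.inner_sig_same (-1) (-1) (by norm_num) hm, D.inner_sig_other (-1) 2 (by norm_num) hl hm,
      gThree, gFour, gFive] at h
    rw [qOne]
    linear_combination h

end Seq

end CfsgLib.Sakuma
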