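import Cfsg.Agent.Sakuma.Seq
import Cfsg.Agent.Sakuma.Core

/-!
The linear relations of a reflection-closed sequence of axes.
-/

set_option autoImplicit false
set_option maxHeartbeats 1000000

namespace CfsgLib.Sakuma

open Cfsg Cfsg.Axial CfsgLib.Majorana

variable {V : Type*} [AddCommGroup V] [Module ℝ V]
  {mul : V →ₗ[ℝ] V →ₗ[ℝ] V} {B : LinearMap.BilinForm ℝ V} {a : ℤ → V}

namespace Seq

theorem axis_S (D : Seq mul B a) (i : ℤ) {l : ℝ} (hl : B (a 0) (a 1) = l) :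
    mul (a i) (esS mul a) =
      ((31 * l - 1) / 32) • a i + (7 / 128 : ℝ) • vPart l (a i) (a (i + 1)) (a (i - 1)) (esS mul a) := by
  obtain ⟨τ, h, hτ⟩ := D.refl i
  exact (axis_facts D.amb h (D.norm i) (x := a (i + 1)) (y := a (i - 1)) (by rw [hτ]; ring_nf)
    ((D.inner_one i).trans hl) (D.prod_one i (i + 1) (Or.inl rfl))).2.2.2

theorem inner_S (D : Seq mul B a) (i : ℤ) {l : ℝ} (hl : B (a 0) (a 1) = l) :
    B (esS mul a) (a i) = (31 * l - 1) / 32 := by
  rw [D.symm, ← D.sig_one i, sig, map_sub, map_smul, map_add, smul_eq_mul, D.assoc, D.idem,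
    D.norm, D.inner_one, hl]
  ring

theorem inner_two_step (D : Seq mul B a) : B (a (-1)) (a 1) = B (a 0) (a 2) := by
  have h1 : B (a 0) (mul (a 1) (esS mul a)) = B (a 1) (mul (a 0) (esS mul a)) := by
    rw [D.assoc, D.assoc, D.comm]
  rw [D.axis_S 1 rfl, D.axis_S 0 rfl] at h1
  simp only [vPart, map_add, map_smul, smul_eq_mul, zero_add, zero_sub, sub_self] at h1
  norm_num at h1
  rw [D.norm, D.norm, D.symm (a 1) (a 0), D.symm (a 0) (esS mul a), D.symm (a 1) (esS mul a),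
    D.inner_S 0 rfl, D.inner_S 1 rfl, D.symm (a 1) (a (-1))] at h1
  linarith

theorem inner_two (D : Seq mul B a) (i : ℤ) : B (a i) (a (i + 2)) = B (a 0) (a 2) := by
  have step : ∀ j, B (a (j - 1)) (a (j + 1)) = B (a j) (a (j + 2)) := by
    intro j
    have := (D.shift j).inner_two_step
    simpa [sub_eq_add_neg, add_comm, add_left_comm] using this
  induction i using Int.induction_on with
  | zero => rw [zero_add]
  | succ n ih =>
    have := step (n + 1)
    rw [add_sub_cancel_right] at this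
    rw [← this, show (n : ℤ) + 1 + 1 = n + 2 by ring, ih]
  | pred n ih =>
    have := step (-(n : ℤ))
    rw [← ih, ← this]
    ring_nf

theorem inner_sig_same (D : Seq mul B a) (i j : ℤ) (h : 2 ∣ i - j) {m : ℝ} (hm : B (a 0) (a 2) = m) :
    B (a i) (sig mul a 2 j) = (31 * m - 1) / 32 := by
  have h1 := D.prod_two i (i + 2) j (Or.inl rfl) h
  rw [eq_sub_of_add_eq h1.symm, map_sub, map_smul, map_add, smul_eq_mul, D.assoc, D.idem, D.norm,
    D.inner_two, hm]
  ring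

theorem inner_sig_other (D : Seq mul B a) (i j : ℤ) (h : ¬ 2 ∣ i - j) {l m : ℝ}
    (hl : B (a 0) (a 1) = l) (hm : B (a 0) (a 2) = m) :
    B (a i) (sig mul a 2 j) = (31 * l - 1) / 32 + (m - l) / 32 := by
  have h1 := D.prod_two (i - 1) (i + 1) j (Or.inl (by ring)) (by omega)
  have e1 := D.inner_one (i - 1)
  have e2 := D.inner_two (i - 1)
  rw [sub_add_cancel] at e1
  rw [show i - 1 + 2 = i + 1 by ring] at e2
  rw [eq_sub_of_add_eq h1.symm, map_sub, map_smul, map_add, smul_eq_mul, D.assoc,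
    D.prod_one i (i - 1) (Or.inr (by ring)), map_add, map_smul, map_add, LinearMap.add_apply,
    LinearMap.smul_apply, LinearMap.add_apply, smul_eq_mul, D.inner_S _ hl, D.inner_one, hl,
    D.symm (a i) (a (i - 1)), e1, e2, hl, hm]
  ring

variable {l m : ℝ}

theorem core_zero (D : Seq mul B a) (hl : B (a 0) (a 1) = l) (hm : B (a 0) (a 2) = m) :
    mul (a 0) (sig mul a 2 1) = ((-19 / 48 : ℝ) + 32 / 3 * l) • esS mul a
        + ((-127 / 3072 : ℝ) + 5 / 3 * l - 1 / 24 * m - 32 / 3 * l ^ 2) • a 0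
        + ((-19 / 3072 : ℝ) + 1 / 6 * l) • a 1 + ((-19 / 3072 : ℝ) + 1 / 6 * l) • a (-1)
        + (7 / 96 : ℝ) • sig mul a 2 0 + (7 / 6144 : ℝ) • a 2 + (7 / 6144 : ℝ) • a (-2) ∧
      mul (esS mul a) (esS mul a) = ((-13 / 1536 : ℝ) - 5 / 12 * l) • esS mul a
        + ((-7 / 98304 : ℝ) - 7 / 384 * l + 7 / 1536 * m + 7 / 6 * l ^ 2) • a 0
        + ((-245 / 196608 : ℝ) + 49 / 768 * l) • a 1 + ((-245 / 196608 : ℝ) + 49 / 768 * l) • a (-1)
        + (-7 / 1536 : ℝ) • sig mul a 2 0 + (49 / 196608 : ℝ) • a 2 + (49 / 196608 : ℝ) • a (-2)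
        + (7 / 2048 : ℝ) • sig mul a 2 1 := by
  obtain ⟨τ, h, hτ⟩ := D.refl 0
  have e1 := D.inner_one (-1)
  norm_num at e1
  have e2 := D.inner_two (-1)
  norm_num at e2
  refine core D.amb h (D.norm 0) (a 1) (a (-1)) (a 2) (a (-2)) (esS mul a) (sig mul a 2 0)
    (sig mul a 2 1) l m ?_ hl ?_ ?_ (D.norm 1) (D.norm (-1)) (D.inner_S 1 hl) (D.inner_S (-1) hl)
    (D.idem 1) (D.idem (-1)) (D.prod_one 0 1 (by norm_num)) (D.prod_one 0 (-1) (by norm_num))
    (D.prod_two 0 2 0 (by norm_num) (by norm_num)) (D.prod_two 0 (-2) 0 (by norm_num) (by norm_num))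
    (D.prod_two 1 (-1) 1 (by norm_num) (by norm_num)) ?_ ?_ ?_
  · rw [hτ]; norm_num
  · rw [D.symm, e1, hl]
  · rw [D.symm, e2, hm]
  · simpa using D.axis_S 0 hl
  · simpa using D.axis_S 1 hl
  · have := D.axis_S (-1) hl
    norm_num at this
    rw [this, vPart, vPart]
    module

theorem axis_sig (D : Seq mul B a) (hm : B (a 0) (a 2) = m) :
    mul (a 0) (sig mul a 2 0) =
      ((31 * m - 1) / 32) • a 0 + (7 / 128 : ℝ) • vPart m (a 0) (a 2) (a (-2)) (sig mul a 2 0) := by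
  obtain ⟨τ, h, hτ⟩ := D.refl 0
  exact (axis_facts D.amb h (D.norm 0) (x := a 2) (y := a (-2)) (by rw [hτ]; norm_num) hm
    (D.prod_two 0 2 0 (by norm_num) (by norm_num))).2.2.2

/-- The recurrence relation. -/
theorem rec_three (D : Seq mul B a) (hl : B (a 0) (a 1) = l) (hm : B (a 0) (a 2) = m) :
    a 3 = ((33 / 7 : ℝ) - 2304 / 7 * l + 128 / 7 * m + 32768 / 7 * l ^ 2) • a 0
      + ((-33 / 7 : ℝ) + 2304 / 7 * l - 128 / 7 * m - 32768 / 7 * l ^ 2) • a 1
      + ((-6 : ℝ) + 256 * l) • a (-1) + (-32 : ℝ) • sig mul a 2 0 + ((6 : ℝ) - 256 * l) • a 2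
      + a (-2) + (32 : ℝ) • sig mul a 2 1 := by
  have h0 := (D.core_zero hl hm).2
  have hl' : B (a (1 - 0)) (a (1 - 1)) = l := by norm_num; rw [D.symm, hl]
  have hm' : B (a (1 - 0)) (a (1 - 2)) = m := by
    norm_num
    rw [D.symm, D.inner_two_step, hm]
  have h1 := ((D.flip 1).core_zero hl' hm').2
  rw [D.esS_flip 1, D.sig_two_flip 1 0, D.sig_two_flip 1 1] at h1
  norm_num at h1
  linear_combination (norm := module) (196608 / 49 : ℝ) • (h0 - h1)

/-- The product of two axes at distance three. -/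
theorem prod_three (D : Seq mul B a) (hl : B (a 0) (a 1) = l) (hm : B (a 0) (a 2) = m) :
    mul (a 0) (a 3) = ((1363 / 336 : ℝ) - 5576 / 21 * l - 160 / 21 * m + 88064 / 21 * l ^ 2) • a 0
      + ((-491 / 21 : ℝ) + 19456 / 21 * l - 128 / 7 * m - 32768 / 7 * l ^ 2) • esS mul a
      + ((-29 / 84 : ℝ) + 328 / 21 * l - 4 / 7 * m - 1024 / 7 * l ^ 2) • a 1
      + ((-37 / 96 : ℝ) + 40 / 3 * l) • a (-1) + ((7 / 3 : ℝ) - 256 * l) • sig mul a 2 0
      + ((11 / 96 : ℝ) - 8 * l) • a 2 + (-1 / 24 : ℝ) • a (-2) := by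
  have h := congrArg (mul (a 0)) (D.rec_three hl hm)
  simp only [map_add, map_smul, D.idem, D.prod_one 0 1 (by norm_num), D.prod_one 0 (-1) (by norm_num),
    D.prod_two 0 2 0 (by norm_num) (by norm_num), D.prod_two 0 (-2) 0 (by norm_num) (by norm_num),
    D.axis_sig hm, (D.core_zero hl hm).1, vPart] at h
  linear_combination (norm := module) h

end Seq

end CfsgLib.Sakuma
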