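import Cfsg.Agent.Sakuma.Axis

/-!
Sequences of Majorana axes closed under their own reflections.
-/

set_option autoImplicit false

namespace CfsgLib.Sakuma

open Cfsg Cfsg.Axial CfsgLib.Majorana

variable {V : Type*} [AddCommGroup V] [Module ℝ V]

/-- A bi-infinite sequence of axes of length one in which each involution reflects the indices. -/
structure Seq (mul : V →ₗ[ℝ] V →ₗ[ℝ] V) (B : LinearMap.BilinForm ℝ V) (a : ℤ → V) : Prop where
  amb : IsMajoranaAmbient mul B
  refl : ∀ i, ∃ τ : V ≃ₗ[ℝ] V, IsMajoranaPair mul B τ (a i) ∧ ∀ j, τ (a j) = a (2 * i - j)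
  norm : ∀ i, B (a i) (a i) = 1

variable {mul : V →ₗ[ℝ] V →ₗ[ℝ] V} {B : LinearMap.BilinForm ℝ V} {a : ℤ → V}

/-- The corrected product of two members at distance `d`. -/
noncomputable def sig (mul : V →ₗ[ℝ] V →ₗ[ℝ] V) (a : ℤ → V) (d i : ℤ) : V :=
  mul (a i) (a (i + d)) - (1 / 32 : ℝ) • (a i + a (i + d))

/-- The corrected product of two neighbours. -/
noncomputable def esS (mul : V →ₗ[ℝ] V →ₗ[ℝ] V) (a : ℤ → V) : V := sig mul a 1 0

namespace Seq

theorem comm (D : Seq mul B a) (u v : V) : mul u v = mul v u := D.amb.1 u v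

theorem symm (D : Seq mul B a) (u v : V) : B u v = B v u := D.amb.2.1 u v

theorem assoc (D : Seq mul B a) (u v w : V) : B u (mul v w) = B (mul u v) w := D.amb.2.2.2.1 u v w

theorem shift (D : Seq mul B a) (k : ℤ) : Seq mul B (fun i => a (i + k)) := by
  refine ⟨D.amb, fun i => ?_, fun i => D.norm _⟩
  obtain ⟨τ, h1, h2⟩ := D.refl (i + k)
  exact ⟨τ, h1, fun j => by rw [h2]; ring_nf⟩

theorem flip (D : Seq mul B a) (k : ℤ) : Seq mul B (fun i => a (k - i)) := by
  refine ⟨D.amb, fun i => ?_, fun i => D.norm _⟩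
  obtain ⟨τ, h1, h2⟩ := D.refl (k - i)
  exact ⟨τ, h1, fun j => by rw [h2]; ring_nf⟩

theorem idem (D : Seq mul B a) (i : ℤ) : mul (a i) (a i) = a i := by
  obtain ⟨τ, h, -⟩ := D.refl i
  exact h.2.2.1.1.2.1

theorem inner_reflect (D : Seq mul B a) (k i j : ℤ) :
    B (a (2 * k - i)) (a (2 * k - j)) = B (a i) (a j) := by
  obtain ⟨τ, h1, h2⟩ := D.refl k
  rw [← h2 i, ← h2 j, h1.2.1]

theorem inner_translate (D : Seq mul B a) (k i j : ℤ) :
    B (a (i + 2 * k)) (a (j + 2 * k)) = B (a i) (a j) := by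
  rw [← D.inner_reflect 0 i j, ← D.inner_reflect k (2 * 0 - i) (2 * 0 - j)]
  ring_nf

theorem inner_one (D : Seq mul B a) (i : ℤ) : B (a i) (a (i + 1)) = B (a 0) (a 1) := by
  have step : ∀ j, B (a (j - 1)) (a j) = B (a j) (a (j + 1)) := by
    intro j
    rw [← D.inner_reflect j j (j + 1), D.symm]
    ring_nf
  induction i using Int.induction_on with
  | zero => rw [zero_add]
  | succ n ih =>
    have := step (n + 1)
    rw [add_sub_cancel_right] at this
    rw [← this, ih]
  | pred n ih =>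
    have := step (-(n : ℤ))
    rw [← ih, ← this]
    ring_nf

theorem sig_left (D : Seq mul B a) (d i : ℤ) : sig mul a d (i - d) = sig mul a d i := by
  obtain ⟨τ, h, hτ⟩ := D.refl i
  have hy : τ (a (i + d)) = a (i - d) := by rw [hτ]; ring_nf
  have := (axis_facts D.amb h (D.norm i) hy rfl (S := sig mul a d i)
    (by rw [sig, sub_add_cancel])).2.2.1
  rw [sig, sub_add_cancel, D.comm (a (i - d)) (a i), this]
  module

theorem sig_add (D : Seq mul B a) (d i : ℤ) (n : ℤ) : sig mul a d (i + n * d) = sig mul a d i := by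
  induction n using Int.induction_on with
  | zero => rw [zero_mul, add_zero]
  | succ n ih =>
    rw [← ih, ← D.sig_left d (i + ((n : ℤ) + 1) * d)]
    ring_nf
  | pred n ih =>
    rw [← ih, ← D.sig_left d (i + -(n : ℤ) * d)]
    ring_nf

theorem sig_one (D : Seq mul B a) (i : ℤ) : sig mul a 1 i = esS mul a := by
  rw [esS, ← D.sig_add 1 0 i]
  ring_nf

theorem esS_flip (D : Seq mul B a) (k : ℤ) : esS mul (fun i => a (k - i)) = esS mul a := by
  rw [← D.sig_one (k - 1), esS, sig, sig, D.comm]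
  ring_nf
  module

theorem esS_shift (D : Seq mul B a) (k : ℤ) : esS mul (fun i => a (i + k)) = esS mul a := by
  rw [← D.sig_one k, esS, sig, sig]
  ring_nf

theorem sig_two_flip (D : Seq mul B a) (k i : ℤ) :
    sig mul (fun i => a (k - i)) 2 i = sig mul a 2 (k - i) := by
  rw [← D.sig_left 2 (k - i), sig, sig, D.comm]
  ring_nf
  module

theorem sig_two_shift (k i : ℤ) : sig mul (fun i => a (i + k)) 2 i = sig mul a 2 (i + k) := by
  rw [sig, sig]
  ring_nf

theorem prod_one (D : Seq mul B a) (i j : ℤ) (h : j = i + 1 ∨ i = j + 1) :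
    mul (a i) (a j) = esS mul a + (1 / 32 : ℝ) • (a i + a j) := by
  rcases h with rfl | rfl
  · rw [← D.sig_one i, sig, sub_add_cancel]
  · rw [← D.sig_one j, sig, D.comm, add_comm (a (j + 1)) (a j), sub_add_cancel]

theorem prod_two (D : Seq mul B a) (i j k : ℤ) (h : j = i + 2 ∨ i = j + 2) (hk : 2 ∣ i - k) :
    mul (a i) (a j) = sig mul a 2 k + (1 / 32 : ℝ) • (a i + a j) := by
  obtain ⟨n, hn⟩ := hk
  have hik : sig mul a 2 i = sig mul a 2 k := by
    rw [← D.sig_add 2 k n]; congr 1; omega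
  rcases h with rfl | rfl
  · rw [← hik, sig, sub_add_cancel]
  · rw [← hik, ← D.sig_left 2 (j + 2), add_sub_cancel_right, sig, D.comm, add_comm (a (j + 2)) (a j),
      sub_add_cancel]

end Seq

end CfsgLib.Sakuma
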