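import Cfsg.Agent.Sakuma.Inner

/-!
The nine solutions and the end of Sakuma's theorem.
-/

set_option autoImplicit false

namespace CfsgLib.Sakuma

open Cfsg Cfsg.Axial CfsgLib.Majorana

set_option maxHeartbeats 1000000 in
theorem solve {l m : ℝ} (h0 : qZero l m = 0) (h1 : qOne l m = 0) :
    m = 1 ∨ gThree l m = 1 ∨ gFour l m = 1 ∨ gFive l m = 1 ∨ gSix l m = 1 := by
  rw [qZero] at h0
  rw [qOne] at h1
  have hlin : (8775 / 784 + 71460 / 49 * l - 138240 * l ^ 2 - 2949120 / 49 * l ^ 3) * m
      + (-8775 / 784 + 55260 / 49 * l - 1002240 / 49 * l ^ 2 - 30689280 / 49 * l ^ 3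
        + 796262400 / 49 * l ^ 4 - 754974720 / 49 * l ^ 5) = 0 := by
    linear_combination h1 - (-87 / 14 - 1472 / 7 * l) * h0
  have hprod : l * (l - 1) * (l - 1 / 8) * (l - 13 / 256) * (l - 1 / 64) * (l - 1 / 64)
      * (l - 3 / 128) * (l - 1 / 32) * (l - 5 / 256) = 0 := by
    have key : (1709960483517235200 / 343 : ℝ) * (l * (l - 1) * (l - 1 / 8) * (l - 13 / 256)
        * (l - 1 / 64) * (l - 1 / 64) * (l - 3 / 128) * (l - 1 / 32) * (l - 5 / 256)) = 0 := by
      linear_combination
        (8775 / 784 + 71460 / 49 * l - 138240 * l ^ 2 - 2949120 / 49 * l ^ 3) ^ 2 * h0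
        - ((-48 / 7) * (8775 / 784 + 71460 / 49 * l - 138240 * l ^ 2 - 2949120 / 49 * l ^ 3) * m
          + (501 / 56 - 3336 / 7 * l - 15360 / 7 * l ^ 2)
            * (8775 / 784 + 71460 / 49 * l - 138240 * l ^ 2 - 2949120 / 49 * l ^ 3)
          - (-48 / 7) * (-8775 / 784 + 55260 / 49 * l - 1002240 / 49 * l ^ 2 - 30689280 / 49 * l ^ 3
            + 796262400 / 49 * l ^ 4 - 754974720 / 49 * l ^ 5)) * hlin
    exact (mul_eq_zero.1 key).resolve_left (by norm_num)
  simp only [mul_eq_zero] at hprod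
  rcases hprod with ((((((((h | h) | h) | h) | h) | h) | h) | h) | h)
  · left
    subst h
    linarith
  · left
    obtain rfl : l = 1 := by linarith
    linarith
  · left
    obtain rfl : l = 1 / 8 := by linarith
    linarith
  · right; left
    obtain rfl : l = 13 / 256 := by linarith
    obtain rfl : m = 13 / 256 := by linarith
    norm_num [gThree]
  · obtain rfl : l = 1 / 64 := by linarith
    have hq : (m - 1 / 8) * (m - 1 / 64) = 0 := by linear_combination (-7 / 48 : ℝ) * h0
    rcases mul_eq_zero.1 hq with e | e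
    · right; right; left
      obtain rfl : m = 1 / 8 := by linarith
      norm_num [gFour]
    · right; left
      obtain rfl : m = 1 / 64 := by linarith
      norm_num [gThree]
  · obtain rfl : l = 1 / 64 := by linarith
    have hq : (m - 1 / 8) * (m - 1 / 64) = 0 := by linear_combination (-7 / 48 : ℝ) * h0
    rcases mul_eq_zero.1 hq with e | e
    · right; right; left
      obtain rfl : m = 1 / 8 := by linarith
      norm_num [gFour]
    · right; left
      obtain rfl : m = 1 / 64 := by linarith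
      norm_num [gThree]
  · right; right; right; left
    obtain rfl : l = 3 / 128 := by linarith
    obtain rfl : m = 3 / 128 := by linarith
    norm_num [gFive]
  · right; right; left
    obtain rfl : l = 1 / 32 := by linarith
    obtain rfl : m = 0 := by linarith
    norm_num [gFour]
  · right; right; right; right
    obtain rfl : l = 5 / 256 := by linarith
    obtain rfl : m = 13 / 256 := by linarith
    norm_num [gSix]

variable {V : Type*} [AddCommGroup V] [Module ℝ V]
  {mul : V →ₗ[ℝ] V →ₗ[ℝ] V} {B : LinearMap.BilinForm ℝ V}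

theorem eq_of_inner (hV : IsMajoranaAmbient mul B) {x y : V} (hx : B x x = 1) (hy : B y y = 1)
    (hxy : B x y = 1) : x = y := by
  by_contra hne
  have h := hV.2.2.1 (x - y) (sub_ne_zero.2 hne)
  simp only [map_sub, LinearMap.sub_apply, hx, hy, hxy, hV.2.1 y x] at h
  norm_num at h

theorem exists_period {a : ℤ → V} (D : Seq mul B a) : ∃ n : ℕ, 1 ≤ n ∧ n ≤ 6 ∧ a n = a 0 := by
  obtain ⟨h0, h1⟩ := D.equations rfl rfl
  have key : ∀ n : ℤ, B (a 0) (a n) = 1 → a n = a 0 := fun n h =>
    (eq_of_inner D.amb (D.norm 0) (D.norm n) h).symm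
  rcases solve h0 h1 with h | h | h | h | h
  · exact ⟨2, by norm_num, by norm_num, key 2 h⟩
  · exact ⟨3, by norm_num, by norm_num, key 3 ((D.inner_three rfl rfl 0 3 (by norm_num)).trans h)⟩
  · exact ⟨4, by norm_num, by norm_num, key 4 ((D.inner_four rfl rfl 0 4 (by norm_num)).trans h)⟩
  · exact ⟨5, by norm_num, by norm_num, key 5 ((D.inner_five rfl rfl 0 5 (by norm_num)).trans h)⟩
  · exact ⟨6, by norm_num, by norm_num, key 6 ((D.inner_six rfl rfl 0 6 (by norm_num)).trans h)⟩

theorem pair_unique {μ ν : V ≃ₗ[ℝ] V} {e : V} (hμ : IsMajoranaPair mul B μ e)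
    (hν : IsMajoranaPair mul B ν e) : μ = ν := by
  refine LinearEquiv.ext fun z => ?_
  have hsplit : eigenSum mul e ({1, 0, 1 / 4} : Set ℝ) ⊔ eigen mul e (1 / 32) = ⊤ := by
    rw [← hμ.2.2.1.1.2.2.1]
    simp only [majoranaSpectrum, eigenSum_insert, eigenSum_singleton, sup_assoc]
  obtain ⟨p, hp, w, hw, rfl⟩ := Submodule.mem_sup.1 (hsplit.ge (Submodule.mem_top (x := z)))
  rw [map_add, map_add]
  exact congrArg₂ (· + ·) ((hμ.2.2.2.1 p hp).trans (hν.2.2.2.1 p hp).symm)
    ((hμ.2.2.2.2 w hw).trans (hν.2.2.2.2 w hw).symm)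

end CfsgLib.Sakuma
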